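import Groth.Prelude.Def_CohB1
import Groth.Agent.ThickEq.Basic
import Mathlib.AlgebraicGeometry.Morphisms.ClosedImmersion
import Mathlib.RingTheory.AdicCompletion.Basic

/-!
Agreement on the thickenings `X_n = X ×_A A/I^(n+1)` gives agreement near `f⁻¹ V(I)`;
and an open containing `f⁻¹ V(I)` is everything when `f` is closed and `A` is `I`-adically complete.
-/

universe u

open AlgebraicGeometry CategoryTheory Limits TopologicalSpace Opposite

namespace Groth.Agent.ThickEq

variable {A : Type u} [CommRing A]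

theorem opens_eq_top_of_isClosedMap (I : Ideal A) [IsAdicComplete I A] {X : Scheme.{u}}
    (f : X ⟶ Spec (CommRingCat.of A)) (hf : IsClosedMap f.base) (U : X.Opens)
    (hU : f.base ⁻¹' (PrimeSpectrum.zeroLocus (I : Set A)) ⊆ (U : Set X)) : U = ⊤ := by
  by_contra h
  obtain ⟨x, hx⟩ : ∃ x, x ∉ U := by
    by_contra hc
    exact h (Opens.ext (Set.eq_univ_of_forall fun x => by_contra fun hx => hc ⟨x, hx⟩))
  let p : PrimeSpectrum A := f.base x
  obtain ⟨m, hm, hpm⟩ := Ideal.exists_le_maximal p.asIdeal p.isPrime.ne_top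
  let q : PrimeSpectrum A := ⟨m, hm.isPrime⟩
  have hq : q ∈ f.base '' (↑U)ᶜ := by
    refine IsClosed.closure_subset (hf _ U.2.isClosed_compl) ?_
    have : q ∈ closure {p} :=
      (PrimeSpectrum.le_iff_mem_closure p q).mp (show p ≤ q from hpm)
    exact closure_mono (show ({p} : Set (PrimeSpectrum A)) ⊆ f.base '' (↑U)ᶜ from
      Set.singleton_subset_iff.mpr (Set.mem_image_of_mem _ hx)) this
  obtain ⟨y, hy, hyq⟩ := hq
  refine hy (hU ?_)
  show f.base y ∈ PrimeSpectrum.zeroLocus (I : Set A)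
  rw [hyq]
  exact (IsAdicComplete.le_jacobson_bot I).trans
    (sInf_le (show (m : Ideal A) ∈ {J : Ideal A | ⊥ ≤ J ∧ J.IsMaximal} from ⟨bot_le, hm⟩))

variable (I : Ideal A) {X : Scheme.{u}} (f : X ⟶ Spec (CommRingCat.of A))

instance isClosedImmersion_thickι (n : ℕ) : IsClosedImmersion (CohB1.thickι f I n) := by
  have : IsClosedImmersion (CohB1.specQuot I n) :=
    IsClosedImmersion.spec_of_surjective _ Ideal.Quotient.mk_surjective
  change IsClosedImmersion (pullback.fst f (CohB1.specQuot I n))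
  infer_instance

/-- The ideal sheaf of the first thickening. -/
noncomputable def baseIdeal : X.IdealSheafData := (CohB1.thickι f I 0).ker

theorem preimage_zeroLocus_subset_support :
    f.base ⁻¹' (PrimeSpectrum.zeroLocus (I : Set A)) ⊆ ((baseIdeal I f).support : Set X) := by
  intro x hx
  refine (CohB1.thickι f I 0).range_subset_ker_support ?_
  change x ∈ Set.range (pullback.fst f (CohB1.specQuot I 0))
  rw [Scheme.Pullback.range_fst, Set.mem_preimage]
  change f.base x ∈ Set.range (PrimeSpectrum.comap (Ideal.Quotient.mk (I ^ (0 + 1))))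
  rw [range_comap_of_surjective _ _ Ideal.Quotient.mk_surjective, Ideal.mk_ker,
    zero_add, pow_one]
  exact hx

theorem le_preimage_top (U : X.Opens) : U ≤ f ⁻¹ᵁ (⊤ : (Spec (CommRingCat.of A)).Opens) := le_top

/-- The map `A → Γ(X, U)`. -/
noncomputable def toΓ (U : X.Opens) : A →+* Γ(X, U) :=
  ((Scheme.ΓSpecIso (CommRingCat.of A)).inv ≫ f.appLE ⊤ U (le_preimage_top f U)).hom

theorem map_le_ideal (U : X.affineOpens) :
    I.map (toΓ f U) ≤ (baseIdeal I f).ideal U := by
  rw [Ideal.map_le_iff_le_comap]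
  intro a ha
  rw [Ideal.mem_comap, baseIdeal, Scheme.Hom.ker_apply, RingHom.mem_ker, toΓ,
    ← CommRingCat.comp_apply, Category.assoc, Scheme.Hom.app_eq_appLE,
    Scheme.Hom.appLE_comp_appLE]
  have key : ∀ (V : (CohB1.thick f I 0).Opens) (m : CohB1.thick f I 0 ⟶ Spec (CommRingCat.of A)),
      m = CohB1.thickToBase f I 0 ≫ CohB1.specQuot I 0 → ∀ e,
        m.appLE ⊤ V e ((Scheme.ΓSpecIso (CommRingCat.of A)).inv a) = 0 := by
    rintro V _ rfl e
    have h0 : (Scheme.ΓSpecIso (CommRingCat.of A)).inv ≫ (CohB1.specQuot I 0).appTop =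
        CommRingCat.ofHom (Ideal.Quotient.mk (I ^ (0 + 1))) ≫
          (Scheme.ΓSpecIso (CommRingCat.of (A ⧸ I ^ (0 + 1)))).inv :=
      (Scheme.ΓSpecIso_inv_naturality _).symm
    have ha0 : Ideal.Quotient.mk (I ^ (0 + 1)) a = 0 :=
      Ideal.Quotient.eq_zero_iff_mem.mpr (by simpa using ha)
    have h1 : (CohB1.specQuot I 0).appTop ((Scheme.ΓSpecIso (CommRingCat.of A)).inv a) = 0 := by
      rw [← CommRingCat.comp_apply, h0, CommRingCat.comp_apply, CommRingCat.ofHom_apply, ha0,
        map_zero]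
    rw [Scheme.Hom.comp_appLE, CommRingCat.comp_apply]
    exact (congrArg _ h1).trans (map_zero _)
  rw [CommRingCat.comp_apply]
  exact key _ _ pullback.condition _

theorem exists_lift (n : ℕ) :
    ∃ l : ((baseIdeal I f) ^ (n + 1)).subscheme ⟶ CohB1.thick f I n,
      l ≫ CohB1.thickι f I n = ((baseIdeal I f) ^ (n + 1)).subschemeι := by
  set J := (baseIdeal I f) ^ (n + 1) with hJ
  let h := J.subschemeι ≫ f
  let r : A →+* Γ(J.subscheme, ⊤) := ((Scheme.ΓSpecIso (CommRingCat.of A)).inv ≫ h.appTop).hom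
  have hr : ∀ a ∈ I ^ (n + 1), r a = 0 := by
    intro a ha
    refine J.subscheme.sheaf.eq_of_locally_eq' (fun U : X.affineOpens => J.subschemeι ⁻¹ᵁ U.1) ⊤
      (fun U => homOfLE le_top) ?_ _ _ ?_
    · rw [← Scheme.Hom.preimage_iSup, iSup_affineOpens_eq_top, Scheme.Hom.preimage_top]
    · intro U
      have h1 : toΓ f U a ∈ J.ideal U := by
        rw [hJ, Scheme.IdealSheafData.ideal_pow, Pi.pow_apply]
        exact Ideal.pow_right_mono (map_le_ideal I f U) _ (by
          rw [← Ideal.map_pow]; exact Ideal.mem_map_of_mem _ ha)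
      rw [← J.ker_subschemeι_app, RingHom.mem_ker, toΓ, ← CommRingCat.comp_apply, Category.assoc,
        Scheme.Hom.app_eq_appLE, Scheme.Hom.appLE_comp_appLE] at h1
      refine Eq.trans ?_ (map_zero (J.subscheme.presheaf.map (homOfLE le_top).op).hom).symm
      show J.subscheme.presheaf.map (homOfLE le_top).op (r a) = 0
      rw [← h1, ← CommRingCat.comp_apply]
      congr 2
  let q : Spec (CommRingCat.of Γ(J.subscheme, ⊤)) ⟶ Spec (CommRingCat.of (A ⧸ I ^ (n + 1))) :=
    Spec.map (CommRingCat.ofHom (Ideal.Quotient.lift _ r hr))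
  have hq : (J.subscheme.toSpecΓ ≫ q) ≫ CohB1.specQuot I n = h := by
    rw [CohB1.specQuot, Category.assoc, ← Spec.map_comp, ← CommRingCat.ofHom_comp,
      Ideal.Quotient.lift_comp_mk]
    simp only [r, CommRingCat.ofHom_hom, Spec.map_comp]
    rw [← Category.assoc, ← Scheme.toSpecΓ_naturality, Category.assoc, toSpecΓ_SpecMap_ΓSpecIso_inv,
      Category.comp_id]
  refine ⟨pullback.lift J.subschemeι (J.subscheme.toSpecΓ ≫ q) hq.symm, pullback.lift_fst _ _ _⟩

theorem exists_opens_agree_thick {Y : Scheme.{u}} [IsLocallyNoetherian X] (φ ψ : X ⟶ Y)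
    (e : ∀ n : ℕ, CohB1.thickι f I n ≫ φ = CohB1.thickι f I n ≫ ψ) :
    ∃ U : X.Opens, f.base ⁻¹' (PrimeSpectrum.zeroLocus (I : Set A)) ⊆ (U : Set X) ∧
      U.ι ≫ φ = U.ι ≫ ψ := by
  obtain ⟨U, hU, h⟩ := exists_opens_agree φ ψ (baseIdeal I f) (fun n => by
    obtain ⟨l, hl⟩ := exists_lift I f n
    rw [← hl, Category.assoc, Category.assoc, e n])
  exact ⟨U, (preimage_zeroLocus_subset_support I f).trans hU, h⟩

end Groth.Agent.ThickEq
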